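import Groth.Agent.AlgSpDec.SchDenseFacts
import Groth.Agent.SchDenseLib.Hom
import Groth.Agent.H23.SchDense
import Groth.Agent.Pi1Ext.FlatHartogs

/-! Extending sections of affine morphisms across opens with bijective restriction. -/

set_option autoImplicit false
universe u

open CategoryTheory AlgebraicGeometry CategoryTheory.Limits TopologicalSpace
open Groth.Agent.SchDenseLib Groth.Agent.AlgSpDec.SchDenseFacts

namespace Groth.Agent.WildQuotExt7

/-- Flat preimages of schematically dense opens of a locally Noetherian scheme. -/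
theorem dense_preimage {X S : Scheme.{u}} [IsLocallyNoetherian S] (f : X ⟶ S) [Flat f] {U : S.Opens}
    (hU : CInt.IsSchematicallyDense U) : CInt.IsSchematicallyDense (f ⁻¹ᵁ U) :=
  preimage_of_flat_qc f U hU fun W hW => by
    haveI : IsNoetherianRing Γ(S, W) := IsLocallyNoetherian.component_noetherian ⟨W, hW⟩
    exact (noetherianSpace_set_iff (W : Set S)).1 (noetherianSpace_of_isAffineOpen W hW) _ Set.inter_subset_left

theorem existsUnique_section {X Y : Scheme.{u}} (U : X.Opens) (f : Y ⟶ X) [IsAffineHom f]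
    (hb : ∀ V : X.Opens, IsAffineOpen V → IsIso (V.ι ⁻¹ᵁ U).ι.appTop)
    (hd : ∀ (Z : Scheme.{u}) (j : Z ⟶ X) [IsOpenImmersion j], CInt.IsSchematicallyDense (j ⁻¹ᵁ U))
    (t : (U : Scheme.{u}) ⟶ Y) (ht : t ≫ f = U.ι) : ∃! s : X ⟶ Y, s ≫ f = 𝟙 X ∧ U.ι ≫ s = t := by
  have hcov : ∀ x : X, ∃ V : X.Opens, IsAffineOpen V ∧ x ∈ V := fun x => by
    obtain ⟨V, hV, hxV, -⟩ := exists_isAffineOpen_mem_and_subset (show x ∈ (⊤ : X.Opens) from trivial)
    exact ⟨V, hV, hxV⟩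
  choose V hV hxV using hcov
  have loc : ∀ x : X, ∃ g : (V x : Scheme.{u}) ⟶ Y, g ≫ f = (V x).ι ∧
      ((V x).ι ⁻¹ᵁ U).ι ≫ g = ((V x).ι ∣_ U) ≫ t := by
    intro x
    haveI : IsAffine (V x : Scheme.{u}) := hV x
    haveI : IsAffine (f ⁻¹ᵁ V x : Scheme.{u}) := (hV x).preimage f
    let U' := (V x).ι ⁻¹ᵁ U
    have hr : Set.range (((V x).ι ∣_ U) ≫ t) ⊆ Set.range (f ⁻¹ᵁ V x).ι := by
      rintro _ ⟨v, rfl⟩
      rw [Scheme.Opens.range_ι]
      show (((V x).ι ∣_ U) ≫ t ≫ f) v ∈ V x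
      rw [ht, morphismRestrict_ι, ← SetLike.mem_coe, ← Scheme.Opens.range_ι]
      exact ⟨_, rfl⟩
    haveI := hb (V x) (hV x)
    let φ := IsOpenImmersion.lift (f ⁻¹ᵁ V x).ι _ hr
    let g := (V x : Scheme.{u}).toSpecΓ ≫ Spec.map (φ.appTop ≫ inv U'.ι.appTop) ≫
      (f ⁻¹ᵁ V x : Scheme.{u}).isoSpec.inv
    have hg : U'.ι ≫ g = φ := by
      rw [Scheme.toSpecΓ_naturality_assoc, ← Spec.map_comp_assoc, Category.assoc, IsIso.inv_hom_id, Category.comp_id,
        ← Scheme.toSpecΓ_naturality_assoc]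
      show φ ≫ (f ⁻¹ᵁ V x : Scheme.{u}).isoSpec.hom ≫ _ = φ
      rw [Iso.hom_inv_id, Category.comp_id]
    refine ⟨g ≫ (f ⁻¹ᵁ V x).ι, ?_, by rw [← Category.assoc, hg, IsOpenImmersion.lift_fac]⟩
    have h1 : g ≫ (f ∣_ V x) = 𝟙 _ := by
      refine ext_of_isAffine ((cancel_mono U'.ι.appTop).1 ?_)
      rw [← Scheme.Hom.comp_appTop, ← Scheme.Hom.comp_appTop]
      congr 1
      rw [← cancel_mono (V x).ι, Category.assoc, Category.assoc, morphismRestrict_ι, Category.comp_id,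
        ← Category.assoc U'.ι g, hg, IsOpenImmersion.lift_fac_assoc, Category.assoc, ht, morphismRestrict_ι]
    rw [Category.assoc, ← morphismRestrict_ι, ← Category.assoc, h1, Category.id_comp]
  choose g hgf hgU using loc
  let 𝒰 := X.openCoverOfIsOpenCover V (TopologicalSpace.IsOpenCover.mk (top_le_iff.1 fun x _ =>
    Opens.mem_iSup.2 ⟨x, hxV x⟩))
  have hcomp : ∀ x y : X, pullback.fst (𝒰.f x) (𝒰.f y) ≫ g x = pullback.snd (𝒰.f x) (𝒰.f y) ≫ g y := by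
    intro x y
    show pullback.fst (V x).ι (V y).ι ≫ g x = pullback.snd (V x).ι (V y).ι ≫ g y
    let p := pullback.fst (V x).ι (V y).ι
    let q := pullback.snd (V x).ι (V y).ι
    have hpq : p ≫ (V x).ι = q ≫ (V y).ι := pullback.condition
    haveI : IsOpenImmersion (p ≫ (V x).ι) := inferInstance
    refine hom_ext (hd _ (p ≫ (V x).ι)) f _ _ ?_ ?_
    · simp only [Category.assoc, hgf]
      exact hpq
    · have key : ∀ (z : X) (p' : pullback (V x).ι (V y).ι ⟶ (V z : Scheme.{u}))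
          (hp : p ≫ (V x).ι = p' ≫ (V z).ι),
          ((p ≫ (V x).ι) ⁻¹ᵁ U).ι ≫ p' ≫ g z =
            IsOpenImmersion.lift U.ι (((p ≫ (V x).ι) ⁻¹ᵁ U).ι ≫ p ≫ (V x).ι) (by
              rintro _ ⟨v, rfl⟩
              rw [Scheme.Opens.range_ι]
              exact v.2) ≫ t := by
        intro x' p' hp
        let O := (p ≫ (V x).ι) ⁻¹ᵁ U
        have hrg : Set.range (O.ι ≫ p') ⊆ Set.range ((V x').ι ⁻¹ᵁ U).ι := by
          rintro _ ⟨v, rfl⟩
          rw [Scheme.Opens.range_ι]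
          show (p' ≫ (V x').ι) (O.ι v) ∈ U
          rw [← hp]
          exact v.2
        rw [← Category.assoc, ← IsOpenImmersion.lift_fac ((V x').ι ⁻¹ᵁ U).ι (O.ι ≫ p') hrg, Category.assoc, hgU,
          ← Category.assoc]
        congr 1
        rw [← cancel_mono U.ι, IsOpenImmersion.lift_fac, Category.assoc, morphismRestrict_ι,
          IsOpenImmersion.lift_fac_assoc, Category.assoc]
        exact (congrArg (O.ι ≫ ·) hp).symm
      exact (key x p rfl).trans (key y q hpq).symm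
  refine ⟨𝒰.glueMorphisms g hcomp, ⟨?_, ?_⟩, fun s hs => ?_⟩
  · refine 𝒰.hom_ext _ _ fun x => ?_
    rw [Scheme.Cover.ι_glueMorphisms_assoc, Category.comp_id]
    exact hgf x
  · let 𝒱 := (U : Scheme.{u}).openCoverOfIsOpenCover (fun x : X => U.ι ⁻¹ᵁ V x)
      (TopologicalSpace.IsOpenCover.mk (top_le_iff.1 fun u _ => Opens.mem_iSup.2 ⟨U.ι u, hxV _⟩))
    refine 𝒱.hom_ext _ _ fun x => ?_
    have hrg : Set.range ((U.ι ∣_ V x)) ⊆ Set.range ((V x).ι ⁻¹ᵁ U).ι := by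
      rintro _ ⟨v, rfl⟩
      rw [Scheme.Opens.range_ι]
      show ((U.ι ∣_ V x) ≫ (V x).ι) v ∈ U
      rw [morphismRestrict_ι, ← SetLike.mem_coe, ← Scheme.Opens.range_ι]
      exact ⟨_, rfl⟩
    show (U.ι ⁻¹ᵁ V x).ι ≫ U.ι ≫ 𝒰.glueMorphisms g hcomp = (U.ι ⁻¹ᵁ V x).ι ≫ t
    rw [← morphismRestrict_ι_assoc U.ι (V x),
      show (V x).ι ≫ 𝒰.glueMorphisms g hcomp = g x from 𝒰.ι_glueMorphisms g hcomp x,
      ← IsOpenImmersion.lift_fac ((V x).ι ⁻¹ᵁ U).ι (U.ι ∣_ V x) hrg, Category.assoc, hgU, ← Category.assoc]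
    congr 1
    rw [← cancel_mono U.ι, Category.assoc, morphismRestrict_ι, IsOpenImmersion.lift_fac_assoc, morphismRestrict_ι]
  · refine 𝒰.hom_ext _ _ fun (x : X) => ?_
    rw [Scheme.Cover.ι_glueMorphisms]
    show (V x).ι ≫ s = g x
    refine hom_ext (hd _ (V x).ι) f _ _ ?_ ?_
    · rw [Category.assoc, hs.1, Category.comp_id]
      exact (hgf x).symm
    · rw [hgU, ← morphismRestrict_ι_assoc (V x).ι U, hs.2]

/-- Morphisms into a scheme affine over the base extend uniquely across depth two. -/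
theorem existsUnique_hom {S X Y : Scheme.{u}} [IsLocallyNoetherian S] (f₁ : X ⟶ S) [Flat f₁] (f₂ : Y ⟶ S)
    [IsAffineHom f₂] (U : S.Opens)
    (hU : ∀ s : S, s ∉ U → (2 : ℕ∞) ≤ LocCoh.depth (S.presheaf.stalk s) (S.presheaf.stalk s))
    (t : ((f₁ ⁻¹ᵁ U : X.Opens) : Scheme.{u}) ⟶ Y) (ht : t ≫ f₂ = (f₁ ⁻¹ᵁ U).ι ≫ f₁) :
    ∃! φ : X ⟶ Y, φ ≫ f₂ = f₁ ∧ (f₁ ⁻¹ᵁ U).ι ≫ φ = t := by
  have hU1 : CInt.IsSchematicallyDense U := (H23.SchDense.isSchematicallyDense_iff U).2 fun x hx =>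
    le_trans (by decide) (hU x hx)
  have hb : ∀ V : X.Opens, IsAffineOpen V → IsIso (V.ι ⁻¹ᵁ (f₁ ⁻¹ᵁ U)).ι.appTop := fun V _ =>
    (ConcreteCategory.isIso_iff_bijective _).2
      (Pi1Ext.FlatHartogs.bijective_appTop (V.ι ≫ f₁) U hU _ (by
        rw [Scheme.Opens.opensRange_ι]; exact le_rfl))
  have hd : ∀ (Z : Scheme.{u}) (j : Z ⟶ X) [IsOpenImmersion j],
      CInt.IsSchematicallyDense (j ⁻¹ᵁ (f₁ ⁻¹ᵁ U)) := fun Z j _ => dense_preimage (j ≫ f₁) hU1
  let s₀ := pullback.lift t (f₁ ⁻¹ᵁ U).ι ht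
  haveI : IsAffineHom (pullback.snd f₂ f₁) := MorphismProperty.pullback_snd _ _ inferInstance
  obtain ⟨s, ⟨hs1, hs2⟩, hsu⟩ := existsUnique_section (f₁ ⁻¹ᵁ U) (pullback.snd f₂ f₁) hb hd s₀
    (pullback.lift_snd _ _ _)
  refine ⟨s ≫ pullback.fst f₂ f₁, ⟨?_, ?_⟩, fun φ hφ => ?_⟩
  · rw [Category.assoc, pullback.condition, reassoc_of% hs1]
  · rw [reassoc_of% hs2, pullback.lift_fst]
  · have h := hsu (pullback.lift φ (𝟙 X) (by rw [Category.id_comp]; exact hφ.1))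
      ⟨pullback.lift_snd _ _ _, pullback.hom_ext
        (by rw [Category.assoc, pullback.lift_fst, pullback.lift_fst]; exact hφ.2)
        (by rw [Category.assoc, pullback.lift_snd, pullback.lift_snd, Category.comp_id])⟩
    rw [← h, pullback.lift_fst]

end Groth.Agent.WildQuotExt7
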